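import Mathlib
import Cfsg.Prelude.Def_KGroupFacts
import Cfsg.Agent.S5758
import Cfsg.Agent.S0698
import Cfsg.Agent.S0700
import Cfsg.Agent.S0711
import Cfsg.Agent.Lib.SubnormalJoin

/-!
# Wielandt's argument for highly transitive groups with the Schreier property (helper386, for S3513)
-/

set_option autoImplicit false

namespace Cfsg.Agent.H386.S3513E

open MulAction

/-- A primitive group centralised by a nontrivial permutation is abelian. -/
theorem comm_of_centralized {M β : Type*} [Group M] [MulAction M β] [FaithfulSMul M β] [hp : IsPreprimitive M β]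
    (x : Equiv.Perm β) (hx : ∀ (m : M) (b : β), x (m • b) = m • x b) (hx1 : x ≠ 1) (m m' : M) :
    m * m' = m' * m := by
  obtain ⟨a, ha⟩ : ∃ a, x a ≠ a := by
    by_contra hcon
    push Not at hcon
    exact hx1 (Equiv.ext hcon)
  have hz : ∀ (i : ℤ) (m : M) (b : β), (x ^ i) (m • b) = m • (x ^ i) b := by
    intro i m b
    have h1 : Commute x (MulAction.toPerm m : Equiv.Perm β) := by
      ext b; exact hx m b
    have h2 := (h1.zpow_left i)
    exact congrArg (fun f : Equiv.Perm β => f b) h2.eq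
  set B : Set β := {b | ∃ i : ℤ, (x ^ i) a = b} with hB
  have hblock : IsBlock M B := by
    rw [isBlock_iff_smul_eq_of_mem]
    rintro g _ ⟨i, rfl⟩ ⟨j, hj⟩
    have h1 : g • a = (x ^ (j - i)) a := by
      rw [← hz] at hj
      have h2 : (x ^ (-i)) ((x ^ i) (g • a)) = (x ^ (-i)) ((x ^ j) a) := by rw [hj]
      rw [← Equiv.Perm.mul_apply, ← Equiv.Perm.mul_apply, ← zpow_add, ← zpow_add, neg_add_cancel,
        zpow_zero, Equiv.Perm.one_apply] at h2
      rw [h2]; congr 2; ring
    ext b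
    rw [Set.mem_smul_set]
    constructor
    · rintro ⟨_, ⟨l, rfl⟩, rfl⟩
      refine ⟨l + (j - i), ?_⟩
      rw [← hz, h1, ← Equiv.Perm.mul_apply, ← zpow_add]
    · rintro ⟨l, rfl⟩
      refine ⟨(x ^ (l - (j - i))) a, ⟨_, rfl⟩, ?_⟩
      rw [← hz, h1, ← Equiv.Perm.mul_apply, ← zpow_add, sub_add_cancel]
  have huniv : B = Set.univ := by
    rcases hp.isTrivialBlock_of_isBlock hblock with h | h
    · exfalso
      apply ha
      exact h ⟨1, by simp⟩ ⟨0, by simp⟩
    · exact h
  have hall : ∀ b : β, ∃ i : ℤ, (x ^ i) a = b := fun b => by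
    have : b ∈ B := by rw [huniv]; trivial
    exact this
  have key : ∀ m : M, ∃ i : ℤ, ∀ b : β, m • b = (x ^ i) b := by
    intro m
    obtain ⟨i, hi⟩ := hall (m • a)
    refine ⟨i, fun b => ?_⟩
    obtain ⟨j, rfl⟩ := hall b
    rw [← hz, ← hi, ← Equiv.Perm.mul_apply, ← Equiv.Perm.mul_apply, ← zpow_add, ← zpow_add, add_comm]
  obtain ⟨i, hi⟩ := key m
  obtain ⟨j, hj⟩ := key m'
  apply FaithfulSMul.eq_of_smul_eq_smul (α := β)
  intro b
  rw [mul_smul, mul_smul, hi, hj, hj, hi, ← Equiv.Perm.mul_apply, ← Equiv.Perm.mul_apply, ← zpow_add,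
    ← zpow_add, add_comm]

/-- Schreier argument. -/
theorem schreier_aux {Γ : Type*} [Group Γ] [Finite Γ] {X : Type*} [Group X] (π : Γ →* X)
    (hπ : Function.Surjective π) (hX : ¬ Group.IsSolvable X) (M : Subgroup Γ) [hn : M.Normal]
    (hs : IsSimpleGroup M) (hM : M ≤ π.ker) (hC : ∀ g : Γ, (∀ m ∈ M, g * m = m * g) → g = 1) : False := by
  let f : Γ →* Cfsg.Out M := (QuotientGroup.mk' (Cfsg.Inn M)).comp MulAut.conjNormal
  have hker : f.ker ≤ π.ker := by
    intro g hg
    rw [MonoidHom.mem_ker] at hg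
    have h1 : (MulAut.conjNormal g : MulAut M) ∈ Cfsg.Inn M := (QuotientGroup.eq_one_iff _).1 hg
    obtain ⟨m₀, hm₀⟩ := h1
    have h2 : (m₀ : Γ)⁻¹ * g = 1 := by
      apply hC
      intro m hm
      have h3 := congrArg (fun φ : MulAut M => ((φ ⟨m, hm⟩ : M) : Γ)) hm₀
      simp only [MulAut.conj_apply, MulAut.conjNormal_apply, Subgroup.coe_mul, Subgroup.coe_inv] at h3
      have h4 : (m₀ : Γ)⁻¹ * (g * m * g⁻¹) * m₀ = m := by rw [← h3]; group
      have h5 : (m₀ : Γ)⁻¹ * g * m = m * ((m₀ : Γ)⁻¹ * g) := by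
        have h6 : (m₀ : Γ)⁻¹ * g * m = ((m₀ : Γ)⁻¹ * (g * m * g⁻¹) * m₀) * ((m₀ : Γ)⁻¹ * g) := by group
        rw [h6, h4]
      exact h5
    have h3 : g = m₀ := (inv_mul_eq_one.1 h2).symm
    rw [h3]
    exact hM m₀.2
  apply hX
  have hsol : Group.IsSolvable (Cfsg.Out M) := Cfsg.Agent.S5758.result
  have h1 : Group.IsSolvable (Γ ⧸ f.ker) :=
    Group.isSolvable_of_isSolvable_injective (f := QuotientGroup.kerLift f) (QuotientGroup.kerLift_injective f)
  refine Group.isSolvable_of_surjective (f := QuotientGroup.lift f.ker π (fun g hg => hker hg)) ?_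
  intro y
  obtain ⟨g, rfl⟩ := hπ y
  exact ⟨QuotientGroup.mk g, rfl⟩

/-- In a 2-transitive group `K` with an overgroup `R` inducing a nonsolvable quotient killed on `K`, minimal
normal subgroups of `K` are abelian. -/
theorem core {β : Type*} [Fintype β] [DecidableEq β] (R K : Subgroup (Equiv.Perm β)) (hKR : K ≤ R)
    (hn : ∀ r ∈ R, ∀ k ∈ K, r * k * r⁻¹ ∈ K) (h2 : IsMultiplyPretransitive K β 2)
    {X : Type*} [Group X] (π : R →* X) (hπ : Function.Surjective π) (hker : ∀ r : R, r.1 ∈ K → π r = 1)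
    (hX : ¬ Group.IsSolvable X) (M : Subgroup K) [hMn : M.Normal] (hM0 : M ≠ ⊥)
    (hmin : ∀ N : Subgroup K, N.Normal → N ≤ M → N = ⊥ ∨ N = M) : ∀ x ∈ M, ∀ y ∈ M, x * y = y * x := by
  by_contra hcon
  have hnc : ¬ ∀ x ∈ M, ∀ y ∈ M, x * y = y * x := hcon
  rcases Cfsg.Agent.S0700.result K h2 M hM0 hmin with ⟨hc, -, -⟩ | ⟨hs, hprim⟩
  · apply hnc
    intro x hx y hy
    exact congrArg Subtype.val (hc.is_comm.comm (⟨x, hx⟩ : M) ⟨y, hy⟩)
  -- the centraliser of `M` is trivial
  have hcent : ∀ x : Equiv.Perm β, (∀ m ∈ M, x * (m : Equiv.Perm β) = m * x) → x = 1 := by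
    intro x hx
    by_contra hx1
    apply hnc
    intro a ha b hb
    have h3 := comm_of_centralized (M := M) x (fun m b => by
      exact congrArg (fun f : Equiv.Perm β => f b) (hx m.1 m.2)) hx1 ⟨a, ha⟩ ⟨b, hb⟩
    exact congrArg Subtype.val h3
  -- `R` normalises `M`
  set M₁ : Subgroup (Equiv.Perm β) := M.map K.subtype with hM₁
  have hM₁K : M₁ ≤ K := Subgroup.map_subtype_le M
  have hMn₁ : ∀ k ∈ K, ∀ m ∈ M₁, k * m * k⁻¹ ∈ M₁ := by
    rintro k hk _ ⟨m, hm, rfl⟩
    exact ⟨_, hMn.conj_mem m hm ⟨k, hk⟩, rfl⟩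
  have hnorm : ∀ r ∈ R, ∀ m ∈ M₁, r * m * r⁻¹ ∈ M₁ := by
    intro r hr
    set L : Subgroup (Equiv.Perm β) := M₁.map (MulAut.conj r).toMonoidHom with hL
    have hLmem : ∀ l, l ∈ L ↔ r⁻¹ * l * r ∈ M₁ := by
      intro l
      rw [hL, Subgroup.mem_map_equiv]
      simp
    have hLK : L ≤ K := by
      intro l hl
      rw [hLmem] at hl
      have := hn r hr _ (hM₁K hl)
      have h4 : r * (r⁻¹ * l * r) * r⁻¹ = l := by group
      rwa [h4] at this
    have hLn : ∀ k ∈ K, ∀ l ∈ L, k * l * k⁻¹ ∈ L := by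
      intro k hk l hl
      rw [hLmem] at hl ⊢
      have h4 : r⁻¹ * k * r ∈ K := by
        have := hn r⁻¹ (inv_mem hr) k hk
        rwa [inv_inv] at this
      have h5 := hMn₁ _ h4 _ hl
      have h6 : r⁻¹ * (k * l * k⁻¹) * r = (r⁻¹ * k * r) * (r⁻¹ * l * r) * (r⁻¹ * k * r)⁻¹ := by group
      rw [h6]; exact h5
    let I : Subgroup K := (M₁ ⊓ L).subgroupOf K
    have hIn : I.Normal := by
      constructor
      intro x hx k
      exact ⟨hMn₁ _ k.2 _ hx.1, hLn _ k.2 _ hx.2⟩
    have hIM : I ≤ M := by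
      intro x hx
      obtain ⟨y, hy, hyx⟩ := hx.1
      have : y = x := Subtype.ext hyx
      rwa [← this]
    rcases hmin I hIn hIM with hI | hI
    · -- `L` centralises `M`
      exfalso
      have hL1 : ∀ l ∈ L, l = 1 := by
        intro l hl
        apply hcent
        intro m hm
        have h4 : l * m * l⁻¹ * (m : Equiv.Perm β)⁻¹ ∈ M₁ ⊓ L := by
          have hmM : (m : Equiv.Perm β) ∈ M₁ := ⟨m, hm, rfl⟩
          refine ⟨M₁.mul_mem (hMn₁ l (hLK hl) _ hmM) (M₁.inv_mem hmM), ?_⟩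
          have h5 := hLn m m.2 l⁻¹ (L.inv_mem hl)
          have h6 : l * m * l⁻¹ * (m : Equiv.Perm β)⁻¹ = l * (m * l⁻¹ * (m : Equiv.Perm β)⁻¹) := by group
          rw [h6]; exact L.mul_mem hl h5
        have h5 : (⟨_, hM₁K h4.1⟩ : K) ∈ I := h4
        rw [hI, Subgroup.mem_bot] at h5
        have h6 := congrArg Subtype.val h5
        simp only [Subgroup.coe_one] at h6
        rw [mul_inv_eq_one, mul_inv_eq_iff_eq_mul] at h6
        exact h6
      apply hM0
      rw [eq_bot_iff]
      intro m hm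
      have h4 : r * (m : Equiv.Perm β) * r⁻¹ ∈ L := by
        rw [hLmem]
        have : r⁻¹ * (r * (m : Equiv.Perm β) * r⁻¹) * r = m := by group
        rw [this]; exact ⟨m, hm, rfl⟩
      have h5 := hL1 _ h4
      rw [Subgroup.mem_bot]
      apply Subtype.ext
      rw [mul_inv_eq_one] at h5
      have : (m : Equiv.Perm β) = 1 := by
        have h6 : r * (m : Equiv.Perm β) = r * 1 := by rw [h5, mul_one]
        exact mul_left_cancel h6
      exact this
    · -- `M ≤ L`
      have hML : M₁ ≤ L := by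
        rintro _ ⟨m, hm, rfl⟩
        rw [← hI] at hm
        exact hm.2
      have hcard : Nat.card L = Nat.card M₁ :=
        (Nat.card_congr (M₁.equivMapOfInjective _ (MulAut.conj r).injective).toEquiv).symm
      have hEq : M₁ = L := Subgroup.eq_of_le_of_card_ge hML hcard.le
      intro m hm
      rw [hEq, hLmem]
      have : r⁻¹ * (r * m * r⁻¹) * r = m := by group
      rw [this]; exact hm
  let N : Subgroup R := M₁.subgroupOf R
  have hNn : N.Normal := ⟨fun x hx g => hnorm _ g.2 _ hx⟩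
  have e : N ≃* M :=
    (Subgroup.subgroupOfEquivOfLe (hM₁K.trans hKR)).trans (M.equivMapOfInjective _ K.subtype_injective).symm
  have hNs : IsSimpleGroup N := by
    have hnt : Nontrivial N := e.toEquiv.nontrivial
    exact IsSimpleGroup.isSimpleGroup_of_surjective e.symm.toMonoidHom e.symm.surjective
  refine schreier_aux π hπ hX N hNs (fun x hx => hker x (hM₁K hx)) ?_
  intro g hg
  apply Subtype.ext
  apply hcent
  intro m hm
  exact congrArg Subtype.val (hg ⟨m, hKR m.2⟩ ⟨m, hm, rfl⟩)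

theorem not_two_regular {M β : Type*} [Group M] [MulAction M β] [Finite β] (h2 : IsMultiplyPretransitive M β 2)
    (hc : Nat.card M = Nat.card β) (h3 : 3 ≤ Nat.card β) : False := by
  obtain ⟨s, -, hs⟩ := Set.exists_subset_card_eq (s := (Set.univ : Set β)) (n := 2)
      (by rw [Set.ncard_univ]; omega)
  have h1 := h2.index_of_fixingSubgroup_mul hs
  obtain ⟨m, hm⟩ : ∃ m, Nat.card β = m + 2 := ⟨Nat.card β - 2, by omega⟩
  rw [hm] at h1
  have e2 : (m + 2).factorial = ((m + 2) * (m + 1)) * m.factorial := by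
    rw [Nat.factorial_succ, Nat.factorial_succ]; ring
  rw [e2, Nat.add_sub_cancel] at h1
  have h4 := Nat.eq_of_mul_eq_mul_right (Nat.factorial_pos m) h1
  have h5 := Subgroup.index_dvd_card (fixingSubgroup M s)
  rw [h4, hc, hm] at h5
  have h6 := Nat.le_of_dvd (by omega) h5
  nlinarith


theorem endgame {α : Type*} [Fintype α] [DecidableEq α] (G : Subgroup (Equiv.Perm α))
    (h7 : MulAction.IsMultiplyPretransitive G α 7) (hn : 11 ≤ Fintype.card α)
    (h : (¬ ∃ q k : ℕ, q.Prime ∧ Fintype.card α = q ^ k + 5) ∨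
      (MulAction.IsMultiplyPretransitive G α 8 ∧ ¬ ∃ k : ℕ, Fintype.card α = 2 ^ k + 5) ∨
      MulAction.IsMultiplyPretransitive G α 9) :
    alternatingGroup α ≤ G := by
  have hnα : Nat.card α = Fintype.card α := Nat.card_eq_fintype_card
  obtain ⟨D, hDu, hD⟩ := Finset.exists_subset_card_eq (s := (Finset.univ : Finset α)) (n := 5)
    (by rw [Finset.card_univ]; omega)
  -- the setwise stabiliser
  let Γ : Subgroup (Equiv.Perm α) :=
    { carrier := {g | g ∈ G ∧ ∀ x, g x ∈ D ↔ x ∈ D}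
      one_mem' := ⟨one_mem G, fun x => Iff.rfl⟩
      mul_mem' := by
        rintro a b ⟨ha, ha'⟩ ⟨hb, hb'⟩
        exact ⟨mul_mem ha hb, fun x => (ha' (b x)).trans (hb' x)⟩
      inv_mem' := by
        rintro a ⟨ha, ha'⟩
        refine ⟨inv_mem ha, fun x => ?_⟩
        have h1 : a (a⁻¹ x) = x := a.apply_symm_apply x
        rw [← ha' (a⁻¹ x), h1] }
  by_contra hA
  -- nothing in `G` is supported in `D`
  have hsupp : ∀ g ∈ G, (∀ x, x ∉ D → g x = x) → g = 1 := by
    intro g hg hx
    by_contra hg1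
    apply hA
    refine (Cfsg.Agent.S0711.result G (k := 7) (by norm_num) (by omega) h7 g hg hg1 ?_).2
    have h1 : g.support ⊆ D := by
      intro x hxs
      by_contra hxD
      exact (Equiv.Perm.mem_support.1 hxs) (hx x hxD)
    have h2 := Finset.card_le_card h1
    omega
  let π : Γ →* Equiv.Perm {x // x ∈ D} :=
    { toFun := fun g => g.1.subtypePerm (fun x => g.2.2 x)
      map_one' := by ext x; rfl
      map_mul' := by intro g h; ext x; rfl }
  let ρ : Γ →* Equiv.Perm {x // x ∉ D} :=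
    { toFun := fun g => g.1.subtypePerm (fun x => not_congr (g.2.2 x))
      map_one' := by ext x; rfl
      map_mul' := by intro g h; ext x; rfl }
  have hρ : Function.Injective ρ := by
    rw [injective_iff_map_eq_one]
    intro g hg
    apply Subtype.ext
    apply hsupp g.1 g.2.1
    intro x hx
    have := congrArg (fun f : Equiv.Perm {x // x ∉ D} => (f ⟨x, hx⟩ : α)) hg
    exact this
  have h5 : IsMultiplyPretransitive G α 5 := isMultiplyPretransitive_of_le (n := 7) (by norm_num) (by omega)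
  have hπ : Function.Surjective π := by
    intro σ
    let e : Fin 5 ≃ {x // x ∈ D} := (Fintype.equivFinOfCardEq (by simpa using hD)).symm
    let x : Fin 5 ↪ α := ⟨fun i => (e i : α), fun i j hij => e.injective (Subtype.ext hij)⟩
    let y : Fin 5 ↪ α := ⟨fun i => (σ (e i) : α), fun i j hij => e.injective (σ.injective (Subtype.ext hij))⟩
    obtain ⟨g, hg⟩ := h5.exists_smul_eq x y
    have hg' : ∀ d : {x // x ∈ D}, (g : Equiv.Perm α) d = σ d := by
      intro d
      have h1 := congrArg (fun f : Fin 5 ↪ α => f (e.symm d)) hg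
      change (g : Equiv.Perm α) (e (e.symm d) : α) = (σ (e (e.symm d)) : α) at h1
      rwa [Equiv.apply_symm_apply] at h1
    have hgD : ∀ x, (g : Equiv.Perm α) x ∈ D ↔ x ∈ D := by
      intro x
      constructor
      · intro hx
        obtain ⟨d, hd⟩ := σ.surjective ⟨_, hx⟩
        have h1 := hg' d
        rw [hd] at h1
        have h2 := (g : Equiv.Perm α).injective h1
        rw [← h2]; exact d.2
      · intro hx
        have h1 := hg' ⟨x, hx⟩
        change (g : Equiv.Perm α) x = _ at h1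
        rw [h1]; exact (σ ⟨x, hx⟩).2
    refine ⟨⟨g, g.2, hgD⟩, ?_⟩
    ext d
    exact hg' d
  -- the pointwise stabiliser, acting on the complement
  let R : Subgroup (Equiv.Perm {x // x ∉ D}) := ρ.range
  let K : Subgroup (Equiv.Perm {x // x ∉ D}) := π.ker.map ρ
  have hKR : K ≤ R := Subgroup.map_le_range ρ _
  have hKn : ∀ r ∈ R, ∀ k ∈ K, r * k * r⁻¹ ∈ K := by
    rintro _ ⟨g, rfl⟩ _ ⟨k, hk, rfl⟩
    refine ⟨g * k * g⁻¹, ?_, by rw [map_mul, map_mul, map_inv]⟩
    have : π.ker.Normal := inferInstance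
    exact this.conj_mem k hk g
  have hcβ : Nat.card {x // x ∉ D} = Fintype.card α - 5 := by
    rw [Nat.card_eq_fintype_card, Fintype.card_subtype_compl, Fintype.card_coe, hD]
  have htrans : ∀ m : ℕ, IsMultiplyPretransitive G α (5 + m) → IsMultiplyPretransitive K {x // x ∉ D} m := by
    intro m hm
    let s : Set α := (D : Set α)
    have hs : s.ncard = 5 := by rw [Set.ncard_coe_finset, hD]
    have h1 : IsMultiplyPretransitive (fixingSubgroup G s) (SubMulAction.ofFixingSubgroup G s) m :=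
      SubMulAction.ofFixingSubgroup.isMultiplyPretransitive G s (n := 5 + m) (by rw [hs])
    have hfix : ∀ g : fixingSubgroup G s, ∀ x ∈ D, (g : Equiv.Perm α) x = x := by
      intro g x hx
      exact (mem_fixingSubgroup_iff G).1 g.2 x hx
    have hΓ : ∀ g : fixingSubgroup G s, ((g : G) : Equiv.Perm α) ∈ Γ := by
      intro g
      refine ⟨(g : G).2, fun x => ⟨fun hx => ?_, fun hx => ?_⟩⟩
      · have h2 := hfix g _ hx
        have h3 := (g : Equiv.Perm α).injective h2
        rwa [h3] at hx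
      · have h3 := hfix g x hx
        rw [h3]; exact hx
    let σ : fixingSubgroup G s → K := fun g => ⟨ρ ⟨_, hΓ g⟩, ⟨_, hΓ g⟩, by
      change π _ = 1
      ext d
      exact hfix g d d.2, rfl⟩
    let f : SubMulAction.ofFixingSubgroup G s →ₑ[σ] {x // x ∉ D} :=
      { toFun := fun x => ⟨x.1, x.2⟩
        map_smul' := fun g x => rfl }
    have hf : Function.Surjective f := fun x => ⟨⟨x.1, x.2⟩, rfl⟩
    exact IsPretransitive.of_embedding (f := f) hf
  have hK2 : IsMultiplyPretransitive K {x // x ∉ D} 2 := htrans 2 h7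
  have hcβ' : Fintype.card {x // x ∉ D} = Fintype.card α - 5 := by
    rw [← hcβ, Nat.card_eq_fintype_card]
  have hβnt : Nontrivial {x // x ∉ D} := by
    rw [← Fintype.one_lt_card_iff_nontrivial]; omega
  have hKnt : Nontrivial K := by
    obtain ⟨a, b, hab⟩ := hβnt
    obtain ⟨g, hg, -⟩ := is_two_pretransitive_iff.1 hK2 hab hab.symm
    refine ⟨g, 1, ?_⟩
    rintro rfl
    exact hab hg
  obtain ⟨M, hMn, hM0, hMmin⟩ := Cfsg.Agent.Lib.SubnormalJoin.exists_minimal_normal K
  -- `π` on `R`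
  let e : Γ ≃* R := MonoidHom.ofInjective hρ
  have hX : ¬ Group.IsSolvable (Equiv.Perm {x // x ∈ D}) := by
    apply Equiv.Perm.not_isSolvable
    rw [Cardinal.mk_fintype, Fintype.card_coe, hD]
    norm_num
  have hcomm := core R K hKR hKn hK2 (π.comp e.symm.toMonoidHom)
    (hπ.comp e.symm.surjective) (by
      rintro r ⟨g, hg, hgr⟩
      have h1 : e g = r := Subtype.ext hgr
      change π (e.symm r) = 1
      rw [← h1, MulEquiv.symm_apply_apply]
      exact hg) hX M hM0 hMmin
  have hM1 : IsPretransitive M {x // x ∉ D} := by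
    rcases Cfsg.Agent.S0698.result K (k := 2) (by norm_num) (by omega) hK2 M hM0 with h1 | h1
    · exact is_one_pretransitive_iff.1 h1
    · exact absurd h1.1 (by norm_num)
  -- `M` is regular
  have hreg : Nat.card M = Nat.card {x // x ∉ D} := by
    obtain ⟨a⟩ : Nonempty {x // x ∉ D} := inferInstance
    have h1 : stabilizer M a = ⊥ := by
      rw [eq_bot_iff]
      intro m hm
      rw [mem_stabilizer_iff] at hm
      rw [Subgroup.mem_bot]
      apply FaithfulSMul.eq_of_smul_eq_smul (α := {x // x ∉ D})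
      intro b
      obtain ⟨m', rfl⟩ := exists_smul_eq M a b
      have h2 : m * m' = m' * m := Subtype.ext (hcomm m m.2 m' m'.2)
      rw [← mul_smul, h2, mul_smul, hm, one_smul]
    have h2 := index_stabilizer_of_transitive M a
    rw [h1, Subgroup.index_bot] at h2
    exact h2
  have hnot2 : ¬ IsMultiplyPretransitive M {x // x ∉ D} 2 := fun h2 =>
    not_two_regular h2 hreg (by omega)
  -- the degree is `q ^ k + 5`
  have hpow : ∃ q k : ℕ, q.Prime ∧ Nat.card M = q ^ k := by
    rcases Cfsg.Agent.S0700.result K hK2 M hM0 hMmin with ⟨-, ⟨p, hp, h1⟩, -⟩ | ⟨hs, -⟩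
    · have hfp : Fact p.Prime := ⟨hp⟩
      have h2 : IsPGroup p M := by
        intro m
        refine ⟨1, Subtype.ext ?_⟩
        rw [pow_one]
        exact h1 m m.2
      obtain ⟨k, hk⟩ := IsPGroup.iff_card.1 h2
      exact ⟨p, k, hp, hk⟩
    · let _ : CommGroup M := { (inferInstance : Group M) with mul_comm := fun a b => Subtype.ext (hcomm a a.2 b b.2) }
      exact ⟨Nat.card M, 1, IsSimpleGroup.prime_card, (pow_one _).symm⟩
  rcases h with h | ⟨h8, h⟩ | h9
  · obtain ⟨q, k, hq, hk⟩ := hpow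
    exact h ⟨q, k, hq, by omega⟩
  · have hK3 : IsMultiplyPretransitive K {x // x ∉ D} 3 := htrans 3 h8
    rcases Cfsg.Agent.S0698.result K (k := 3) (by norm_num) (by omega) hK3 M hM0 with h1 | ⟨-, -, h1⟩
    · exact hnot2 h1
    · have h2 : IsPGroup 2 M := by
        intro m
        refine ⟨1, Subtype.ext ?_⟩
        rw [pow_one]
        exact h1 m m.2
      obtain ⟨k, hk⟩ := IsPGroup.iff_card.1 h2
      exact h ⟨k, by omega⟩
  · have hK4 : IsMultiplyPretransitive K {x // x ∉ D} 4 := htrans 4 h9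
    rcases Cfsg.Agent.S0698.result K (k := 4) (by norm_num) (by omega) hK4 M hM0 with h1 | ⟨h1, -⟩
    · exact hnot2 (isMultiplyPretransitive_of_le (n := 3) (by norm_num) (by omega))
    · exact absurd h1 (by norm_num)

end Cfsg.Agent.H386.S3513E
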