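import Mathlib

/-!
Extremely primitive groups: a point stabilizer acts primitively on each of its orbits.
Manning's theorem: the point stabilizer is faithful on each of its orbits of length > 1.
-/

set_option autoImplicit false

namespace Cfsg.Agent.H386.ExtPrim

open MulAction
open scoped Pointwise

/-- In a primitive action an invariant equivalence relation is equality or everything. -/
theorem eq_or_univ_of_invariant {G : Type*} [Group G] {Ω : Type*} [MulAction G Ω]
    [IsPreprimitive G Ω] (r : Ω → Ω → Prop) (hr : Equivalence r)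
    (hinv : ∀ (g : G) x y, r x y → r (g • x) (g • y)) :
    (∀ x y, r x y → x = y) ∨ ∀ x y, r x y := by
  by_cases h : ∃ x y, r x y ∧ x ≠ y
  · right
    obtain ⟨x, y, hxy, hne⟩ := h
    have hB : IsBlock G {z | r x z} := by
      rw [isBlock_iff_smul_eq_or_disjoint]
      intro g
      by_cases hd : Disjoint (g • {z | r x z}) {z | r x z}
      · exact Or.inr hd
      · left
        rw [Set.not_disjoint_iff] at hd
        obtain ⟨z, hz1, hz2⟩ := hd
        obtain ⟨w, hw, rfl⟩ := hz1
        have h1 : r (g • x) (g • w) := hinv g _ _ hw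
        have h2 : r x (g • x) := hr.trans hz2 (hr.symm h1)
        ext v
        rw [Set.mem_smul_set_iff_inv_smul_mem]
        constructor
        · intro hv
          have h3 := hinv g _ _ hv
          rw [smul_inv_smul] at h3
          exact hr.trans h2 h3
        · intro hv
          have h3 : r (g • x) v := hr.trans (hr.symm h2) hv
          have h4 := hinv g⁻¹ _ _ h3
          rw [inv_smul_smul] at h4
          exact h4
    rcases hB.subsingleton_or_eq_univ with h1 | h1
    · exact absurd (h1 (hr.refl x) hxy) hne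
    · intro a b
      have ha : a ∈ {z | r x z} := h1 ▸ Set.mem_univ a
      have hb : b ∈ {z | r x z} := h1 ▸ Set.mem_univ b
      exact hr.trans (hr.symm ha) hb
  · left
    intro x y hxy
    by_contra hne
    exact h ⟨x, y, hxy, hne⟩

/-- If the stabilizer of `α` is primitive on the orbit of `x`, a subgroup normalized by it and
contained in it which moves `x` is transitive on that orbit. -/
theorem transitive_on_orbit {G : Type*} [Group G] {Ω : Type*} [MulAction G Ω] {α x : Ω}
    (hep : IsPreprimitive (stabilizer G α) (orbit (stabilizer G α) x)) (K : Subgroup G)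
    (hK : K ≤ stabilizer G α) (hKn : ∀ g ∈ stabilizer G α, ∀ k ∈ K, g * k * g⁻¹ ∈ K)
    {k₀ : G} (hk₀ : k₀ ∈ K) (hmove : k₀ • x ≠ x) :
    ∀ y ∈ orbit (stabilizer G α) x, ∃ k ∈ K, k • x = y := by
  intro y hy
  let N : Subgroup (stabilizer G α) := K.subgroupOf (stabilizer G α)
  have hN : N.Normal := by
    constructor
    intro n hn g
    exact hKn g.1 g.2 n.1 hn
  have hne : fixedPoints N (orbit (stabilizer G α) x) ≠ Set.univ := by
    intro h
    have h1 : (⟨x, mem_orbit_self x⟩ : orbit (stabilizer G α) x) ∈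
        fixedPoints N (orbit (stabilizer G α) x) := h ▸ Set.mem_univ _
    have h2 := h1 ⟨⟨k₀, hK hk₀⟩, hk₀⟩
    apply hmove
    exact congrArg Subtype.val h2
  have htr : IsPretransitive N (orbit (stabilizer G α) x) :=
    IsQuasiPreprimitive.isPretransitive_of_normal hne
  obtain ⟨k, hk⟩ := htr.exists_smul_eq (⟨x, mem_orbit_self x⟩ : orbit (stabilizer G α) x) ⟨y, hy⟩
  exact ⟨k.1.1, k.2, congrArg Subtype.val hk⟩

section Manning

variable {G : Type*} [Group G] {Ω : Type*} [Fintype Ω] [MulAction G Ω]

/-- An invariant relation on a finite transitive set has constant out-degree equal to the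
constant in-degree. -/
theorem outdegree_eq_indegree [IsPretransitive G Ω] (R : Ω → Ω → Prop)
    (hR : ∀ (g : G) x y, R x y → R (g • x) (g • y)) (a b : Ω) :
    Nat.card {x // R a x} = Nat.card {x // R x b} := by
  classical
  have hR' : ∀ (g : G) x y, R (g • x) (g • y) ↔ R x y := by
    intro g x y
    refine ⟨fun h => ?_, hR g x y⟩
    have := hR g⁻¹ _ _ h
    rwa [inv_smul_smul, inv_smul_smul] at this
  have hout : ∀ a b : Ω, Fintype.card {x // R a x} = Fintype.card {x // R b x} := by
    intro a b
    obtain ⟨g, rfl⟩ := exists_smul_eq G a b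
    refine Fintype.card_congr ((toPerm g).subtypeEquiv (fun x => ?_))
    exact (hR' g a x).symm
  have hin : ∀ a b : Ω, Fintype.card {x // R x a} = Fintype.card {x // R x b} := by
    intro a b
    obtain ⟨g, rfl⟩ := exists_smul_eq G a b
    refine Fintype.card_congr ((toPerm g).subtypeEquiv (fun x => ?_))
    exact (hR' g x a).symm
  have hsum : ∑ x : Ω, Fintype.card {y // R x y} = ∑ y : Ω, Fintype.card {x // R x y} := by
    simp_rw [Fintype.card_subtype, Finset.card_filter]
    exact Finset.sum_comm
  have h1 : ∑ x : Ω, Fintype.card {y // R x y} = Fintype.card Ω * Fintype.card {x // R a x} := by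
    rw [Finset.sum_congr rfl (fun x _ => hout x a)]
    simp
  have h2 : ∑ x : Ω, Fintype.card {y // R y x} = Fintype.card Ω * Fintype.card {x // R x b} := by
    rw [Finset.sum_congr rfl (fun x _ => hin x b)]
    simp
  rw [h1, h2] at hsum
  rw [Nat.card_eq_fintype_card, Nat.card_eq_fintype_card]
  exact Nat.eq_of_mul_eq_mul_left (Fintype.card_pos_iff.2 ⟨a⟩) hsum

/-- **Manning's theorem**: in an extremely primitive group the point stabilizer is faithful on
each of its orbits other than the fixed point. -/
theorem manning [FaithfulSMul G Ω] [hprim : IsPreprimitive G Ω]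
    (hep : ∀ (α ω : Ω), IsPreprimitive (stabilizer G α) (orbit (stabilizer G α) ω))
    (α ω : Ω) (hω : ω ≠ α) (h : G) (hh : h ∈ stabilizer G α)
    (hfix : ∀ x ∈ orbit (stabilizer G α) ω, h • x = x) : h = 1 := by
  classical
  by_contra hh1
  have hnt : Nontrivial Ω := ⟨ω, α, hω⟩
  -- the suborbit
  let D : Ω → Set Ω := fun a => {x | ∃ g : G, g • α = a ∧ g • ω = x}
  have hD : ∀ (g : G) a x, x ∈ D a → g • x ∈ D (g • a) := by
    rintro g a x ⟨u, hu1, hu2⟩
    exact ⟨g * u, by rw [mul_smul, hu1], by rw [mul_smul, hu2]⟩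
  have hDα : D α ⊆ orbit (stabilizer G α) ω := by
    rintro x ⟨g, hg1, hg2⟩
    exact ⟨⟨g, hg1⟩, hg2⟩
  -- the kernel of the action on the suborbit
  let K : Ω → Subgroup G := fun a =>
    { carrier := {g | g • a = a ∧ ∀ x ∈ D a, g • x = x}
      one_mem' := ⟨one_smul _ _, fun x _ => one_smul _ _⟩
      mul_mem' := fun {g g'} hg hg' => ⟨by rw [mul_smul, hg'.1, hg.1],
        fun x hx => by rw [mul_smul, hg'.2 x hx, hg.2 x hx]⟩
      inv_mem' := fun {g} hg => ⟨by rw [inv_smul_eq_iff, hg.1],
        fun x hx => by rw [inv_smul_eq_iff, hg.2 x hx]⟩ }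
  have hK : ∀ a g, g ∈ K a ↔ g • a = a ∧ ∀ x ∈ D a, g • x = x := fun a g => Iff.rfl
  have hKconj : ∀ (g : G) a k, k ∈ K a → g * k * g⁻¹ ∈ K (g • a) := by
    intro g a k hk
    rw [hK] at hk ⊢
    refine ⟨?_, fun x hx => ?_⟩
    · rw [mul_smul, mul_smul, inv_smul_smul, hk.1]
    · have h1 := hD g⁻¹ _ _ hx
      rw [inv_smul_smul] at h1
      rw [mul_smul, mul_smul, hk.2 _ h1, smul_inv_smul]
  have hKstab : ∀ a, K a ≤ stabilizer G a := fun a g hg => hg.1
  have hKn : ∀ a, ∀ g ∈ stabilizer G a, ∀ k ∈ K a, g * k * g⁻¹ ∈ K a := by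
    intro a g hg k hk
    have := hKconj g a k hk
    rwa [mem_stabilizer_iff.1 hg] at this
  have hhK : h ∈ K α := ⟨hh, fun x hx => hfix x (hDα hx)⟩
  -- the relation: `x ≠ a` is fixed by `K a`
  let F : Ω → Ω → Prop := fun a x => ∀ k ∈ K a, k • x = x
  have hF : ∀ (g : G) a x, F a x → F (g • a) (g • x) := by
    intro g a x hx k hk
    have h1 := hKconj g⁻¹ _ _ hk
    rw [inv_smul_smul, inv_inv] at h1
    have h2 := hx _ h1
    rw [mul_smul, mul_smul, inv_smul_eq_iff] at h2
    exact h2
  have hF' : ∀ (g : G) a x, F (g • a) (g • x) ↔ F a x := by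
    intro g a x
    refine ⟨fun h => ?_, hF g a x⟩
    have := hF g⁻¹ _ _ h
    rwa [inv_smul_smul, inv_smul_smul] at this
  let R : Ω → Ω → Prop := fun a x => x ≠ a ∧ F a x
  have hR : ∀ (g : G) a x, R a x → R (g • a) (g • x) := fun g a x hx =>
    ⟨fun h => hx.1 (MulAction.injective g h), hF g a x hx.2⟩
  have hRω : R α ω := ⟨hω, fun k hk => hk.2 ω ⟨1, one_smul _ _, one_smul _ _⟩⟩
  -- outside `F a` the orbits of the stabilizer are orbits of `K a`
  have htrK : ∀ a x, ¬ F a x → ∀ y ∈ orbit (stabilizer G a) x, ∃ k ∈ K a, k • x = y := by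
    intro a x hx y hy
    have hx' : ∃ k ∈ K a, k • x ≠ x := by
      by_contra hcon
      push Not at hcon
      exact hx hcon
    obtain ⟨k, hk, hkx⟩ := hx'
    exact transitive_on_orbit (hep a x) (K a) (hKstab a) (hKn a) hk hkx y hy
  -- a point outside `F` with the longest orbit
  let len : Ω × Ω → ℕ := fun q => Nat.card (orbit (stabilizer G q.1) q.2)
  let S : Finset (Ω × Ω) := Finset.univ.filter (fun q => ¬ F q.1 q.2)
  have hS : S.Nonempty := by
    by_contra hcon
    rw [Finset.not_nonempty_iff_eq_empty] at hcon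
    apply hh1
    apply FaithfulSMul.eq_of_smul_eq_smul (α := Ω)
    intro x
    rw [one_smul]
    by_contra hx
    have : (α, x) ∈ S := by
      simp only [S, Finset.mem_filter, Finset.mem_univ, true_and]
      intro h1
      exact hx (h1 h hhK)
    rw [hcon] at this
    exact absurd this (Finset.notMem_empty _)
  obtain ⟨⟨a, c⟩, hacS, hmax⟩ := S.exists_max_image len hS
  have hac : ¬ F a c := by simpa [S] using hacS
  have hmax' : ∀ x y, ¬ F x y →
      Nat.card (orbit (stabilizer G x) y) ≤ Nat.card (orbit (stabilizer G a) c) := by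
    intro x y hxy
    exact hmax (x, y) (by simpa [S] using hxy)
  -- the orbit
  let Γ : Set Ω := orbit (stabilizer G a) c
  have hΓF : ∀ y ∈ Γ, ¬ F a y := by
    rintro y ⟨g, rfl⟩ hy
    apply hac
    have h1 := hF (g.1⁻¹) _ _ hy
    have h2 : g.1⁻¹ • a = a := by rw [inv_smul_eq_iff]; exact (mem_stabilizer_iff.1 g.2).symm
    rw [h2] at h1
    have h3 : g.1⁻¹ • (g • c) = c := inv_smul_smul g.1 c
    rwa [h3] at h1
  have haF : F a a := fun k hk => hk.1
  -- distinct points have distinct stabilizers
  have hstab : ∀ x y : Ω, stabilizer G x = stabilizer G y → x = y := by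
    rcases eq_or_univ_of_invariant (G := G) (fun x y : Ω => stabilizer G x = stabilizer G y)
      ⟨fun _ => rfl, fun h => h.symm, fun h1 h2 => h1.trans h2⟩ (fun g x y hxy => by
        rw [stabilizer_smul_eq_stabilizer_map_conj, stabilizer_smul_eq_stabilizer_map_conj,
          hxy]) with h1 | h1
    · exact h1
    · exfalso
      apply hh1
      apply FaithfulSMul.eq_of_smul_eq_smul (α := Ω)
      intro x
      rw [one_smul]
      have : h ∈ stabilizer G x := by rw [h1 x α]; exact hh
      exact this
  -- key: `R a b` implies `F b y` for `y ∈ Γ`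
  have key : ∀ b, R a b → ∀ y ∈ Γ, F b y := by
    intro b hab y hy
    by_contra hby
    have hsub : Γ ⊆ orbit (stabilizer G b) y := by
      intro z hz
      have h1 : orbit (stabilizer G a) y = Γ := orbit_eq_iff.2 hy
      rw [← h1] at hz
      obtain ⟨k, hk, rfl⟩ := htrK a y (hΓF y hy) z hz
      exact ⟨⟨k, hab.2 k hk⟩, rfl⟩
    have hcard := hmax' b y hby
    have heq : Γ = orbit (stabilizer G b) y := by
      apply Set.eq_of_subset_of_ncard_le hsub _ (Set.toFinite _)
      exact hcard
    -- the set stabilizer of `Γ`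
    have hne : stabilizer G Γ ≠ ⊤ := by
      intro htop
      obtain ⟨g, hg⟩ := exists_smul_eq G c a
      have h1 : g ∈ stabilizer G Γ := htop ▸ Subgroup.mem_top g
      have h2 : g • c ∈ g • Γ := Set.smul_mem_smul_set (mem_orbit_self c)
      rw [mem_stabilizer_iff.1 h1, hg] at h2
      exact hΓF a h2 haF
    have hfixed : ∀ (z : Ω) (w : Ω), Γ = orbit (stabilizer G z) w →
        stabilizer G z ≤ stabilizer G Γ := by
      intro z w hzw g hg
      rw [mem_stabilizer_iff, hzw]
      exact smul_orbit (⟨g, hg⟩ : stabilizer G z) w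
    have ha := hfixed a c rfl
    have hb := hfixed b y heq
    have hca : IsCoatom (stabilizer G a) := IsPreprimitive.isCoatom_stabilizer_of_isPreprimitive G a
    have hcb : IsCoatom (stabilizer G b) := IsPreprimitive.isCoatom_stabilizer_of_isPreprimitive G b
    have ha' : stabilizer G a = stabilizer G Γ := by
      rcases hca.le_iff.1 ha with h1 | h1
      · exact absurd h1 hne
      · exact h1.symm
    have hb' : stabilizer G b = stabilizer G Γ := by
      rcases hcb.le_iff.1 hb with h1 | h1
      · exact absurd h1 hne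
      · exact h1.symm
    exact hab.1 (hstab b a (hb'.trans ha'.symm))
  -- in-neighbourhoods of the points of `Γ` are all equal to the out-neighbourhood of `a`
  have hin : ∀ y ∈ Γ, ∀ b, R b y ↔ R a b := by
    intro y hy
    have hsub : {b | R a b} ⊆ {b | R b y} := by
      intro b hb
      refine ⟨?_, key b hb y hy⟩
      rintro rfl
      exact hΓF _ hy hb.2
    have hcard := outdegree_eq_indegree (G := G) R hR a y
    have heq : {b | R a b} = {b | R b y} := by
      apply Set.eq_of_subset_of_ncard_le hsub _ (Set.toFinite _)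
      exact hcard.symm.le
    intro b
    exact (Set.ext_iff.1 heq b).symm
  obtain ⟨k, hk, hkc⟩ : ∃ k ∈ K a, k • c ≠ c := by
    by_contra hcon
    push Not at hcon
    exact hac hcon
  have hkΓ : k • c ∈ Γ := ⟨⟨k, hKstab a hk⟩, rfl⟩
  rcases eq_or_univ_of_invariant (G := G) (fun x y : Ω => ∀ b, R b x ↔ R b y)
      ⟨fun _ _ => Iff.rfl, fun h b => (h b).symm, fun h1 h2 b => (h1 b).trans (h2 b)⟩
      (fun g x y hxy b => by
        have h1 : ∀ z, R b (g • z) ↔ R (g⁻¹ • b) z := by
          intro z
          constructor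
          · intro h
            have := hR g⁻¹ _ _ h
            rwa [inv_smul_smul] at this
          · intro h
            have := hR g _ _ h
            rwa [smul_inv_smul] at this
        rw [h1, h1]
        exact hxy _) with h1 | h1
  · exact hkc (h1 _ _ (fun b => (hin _ hkΓ b).trans (hin _ (mem_orbit_self c) b).symm))
  · have h2 := (h1 ω α α).1 hRω
    exact h2.1 rfl

end Manning

end Cfsg.Agent.H386.ExtPrim
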