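import Cfsg.Agent.Lib.MinNormalNonabelian

/-!
A non-abelian minimal normal subgroup `N` of a finite group and one of its simple factors `T`,
in elementwise form.
-/

set_option autoImplicit false

namespace Cfsg.Agent.H386.Factor

open Subgroup Cfsg.Agent.Lib.MinNormal Cfsg.Agent.Lib.MinNormalNonabelian

universe u

variable {G : Type u} [Group G]

/-- `T` is a simple direct factor of the minimal normal subgroup `N`, elementwise. -/
structure IsFactor (N T : Subgroup G) : Prop where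
  le : T ≤ N
  ne_bot : T ≠ ⊥
  simple : ∀ K : Subgroup G, K ≤ T → (∀ t ∈ T, ∀ k ∈ K, t * k * t⁻¹ ∈ K) → K = ⊥ ∨ K = T
  centerless : ∀ z ∈ T, (∀ t ∈ T, z * t = t * z) → z = 1
  norm : ∀ n ∈ N, ∀ t ∈ T, n * t * n⁻¹ ∈ T
  conj : ∀ g : G, (∀ t ∈ T, g * t * g⁻¹ ∈ T) ∨
    (∀ s ∈ T, ∀ t ∈ T, s * (g * t * g⁻¹) = (g * t * g⁻¹) * s)
  split : ∀ n ∈ N, ∃ x ∈ T, ∃ c ∈ N, (∀ t ∈ T, c * t = t * c) ∧ n = x * c
  gen : ∀ M : Subgroup G, (∀ g : G, ∀ t ∈ T, g * t * g⁻¹ ∈ M) → N ≤ M

/-- Every non-trivial finite group has a minimal normal subgroup. -/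
theorem exists_min_normal [Finite G] [Nontrivial G] :
    ∃ N : Subgroup G, N.Normal ∧ N ≠ ⊥ ∧ ∀ M : Subgroup G, M.Normal → M ≤ N → M = ⊥ ∨ M = N := by
  have hfin : {N : Subgroup G | N.Normal ∧ N ≠ ⊥}.Finite := Set.toFinite _
  obtain ⟨N, ⟨hN, hN0⟩, hmin⟩ := hfin.exists_minimal ⟨⊤, inferInstance, top_ne_bot⟩
  refine ⟨N, hN, hN0, fun M hM hMN => ?_⟩
  by_cases hM0 : M = ⊥
  · exact Or.inl hM0
  · exact Or.inr (le_antisymm hMN (hmin ⟨hM, hM0⟩ hMN))

/-- Every non-trivial normal subgroup of a finite group contains a minimal normal subgroup. -/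
theorem exists_min_normal_le [Finite G] (K : Subgroup G) [hK : K.Normal] (hK0 : K ≠ ⊥) :
    ∃ N : Subgroup G, N.Normal ∧ N ≤ K ∧ N ≠ ⊥ ∧
      ∀ M : Subgroup G, M.Normal → M ≤ N → M = ⊥ ∨ M = N := by
  have hfin : {N : Subgroup G | N.Normal ∧ N ≤ K ∧ N ≠ ⊥}.Finite := Set.toFinite _
  obtain ⟨N, ⟨hN, hNK, hN0⟩, hmin⟩ := hfin.exists_minimal ⟨K, hK, le_rfl, hK0⟩
  refine ⟨N, hN, hNK, hN0, fun M hM hMN => ?_⟩
  by_cases hM0 : M = ⊥
  · exact Or.inl hM0
  · exact Or.inr (le_antisymm hMN (hmin ⟨hM, hMN.trans hNK, hM0⟩ hMN))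

/-- Existence of a simple factor. -/
theorem exists_factor [Finite G] (N : Subgroup G) [hNn : N.Normal]
    (hmin : ∀ M : Subgroup G, M.Normal → M ≤ N → M = ⊥ ∨ M = N)
    (hna : ¬ ∀ x ∈ N, ∀ y ∈ N, Commute x y) : ∃ T : Subgroup G, IsFactor N T := by
  obtain ⟨⟨T, hT⟩, hind, hsup, hsimp, hc, hconj⟩ := nonabelian_structure N hmin hna
  have hTs := hT
  obtain ⟨hTN, hT0, hTn, hTmin⟩ := hTs
  have hK : ∀ S ∈ minSet N, N ≤ normalizer (S : Set G) := fun S hS => hS.2.2.1
  have hle : ∀ S ∈ minSet N, S ≤ N := fun S hS => hS.1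
  have hcT : ∀ z ∈ T, (∀ t ∈ T, z * t = t * z) → z = 1 := fun z hz h => hc T hT z hz h
  refine ⟨T, hTN, hT0, fun K hKT hKn => ?_, hcT, fun n hn t ht =>
    (mem_normalizer_iff.1 (hTn hn) t).1 ht, fun g => ?_, fun n hn => ?_, fun M hM => ?_⟩
  · -- simplicity
    have hs : IsSimpleGroup T := hsimp T hT
    have hn : (K.subgroupOf T).Normal := by
      constructor
      intro k hk t
      exact hKn t.1 t.2 k.1 hk
    rcases hs.eq_bot_or_eq_top_of_normal _ hn with h | h
    · left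
      rw [subgroupOf_eq_bot, disjoint_iff, inf_eq_left.2 hKT] at h
      exact h
    · right
      rw [subgroupOf_eq_top] at h
      exact le_antisymm hKT h
  · by_cases h : T.map (MulAut.conj g).toMonoidHom = T
    · left
      intro t ht
      have : g * t * g⁻¹ ∈ T.map (MulAut.conj g).toMonoidHom := ⟨t, ht, rfl⟩
      rwa [h] at this
    · right
      intro s hs t ht
      exact commute_of_mem hind hK hle hT (map_conj_mem_minSet hT g) (Ne.symm h) hs
        (⟨t, ht, rfl⟩ : g * t * g⁻¹ ∈ T.map (MulAut.conj g).toMonoidHom)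
  · have h1 : sSup (minSet N) = T ⊔ sSup (minSet N \ {T}) := by
      rw [← sSup_insert, Set.insert_sdiff_singleton, Set.insert_eq_of_mem hT]
    have hTn' : T ≤ normalizer ((sSup (minSet N \ {T}) : Subgroup G) : Set G) :=
      (hle T hT).trans (le_normalizer_sSup fun U hU => hK U hU.1)
    have hnT : sSup (minSet N \ {T}) ≤ normalizer (T : Set G) :=
      (sSup_le fun U hU => hle U hU.1).trans (hK T hT)
    have hx' : n ∈ ((T ⊔ sSup (minSet N \ {T}) : Subgroup G) : Set G) := by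
      rw [← h1, hsup]; exact hn
    rw [coe_mul_of_left_le_normalizer_right _ _ hTn'] at hx'
    obtain ⟨t, ht, y, hy, rfl⟩ := hx'
    refine ⟨t, ht, y, ?_, fun u hu => ?_, rfl⟩
    · exact (sSup_le (fun U hU => hle U hU.1) : sSup (minSet N \ {T}) ≤ N) hy
    · exact (commute_of_disjoint hTn' hnT (hind hT) hu hy).symm
  · rw [← hsup]
    refine sSup_le fun S hS => ?_
    obtain ⟨g, hg⟩ := hconj T hT S hS
    rw [hg]
    rintro _ ⟨t, ht, rfl⟩
    exact hM g t ht

/-- The centre of a non-abelian minimal normal subgroup is trivial: in fact an `N`-invariant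
abelian subgroup of `N` is trivial. -/
theorem eq_bot_of_abelian {N T : Subgroup G} [hNn : N.Normal]
    (hmin : ∀ M : Subgroup G, M.Normal → M ≤ N → M = ⊥ ∨ M = N)
    (hna : ¬ ∀ x ∈ N, ∀ y ∈ N, Commute x y) (hT : IsFactor N T) {K : Subgroup G} (hKN : K ≤ N)
    (hKn : ∀ n ∈ N, ∀ k ∈ K, n * k * n⁻¹ ∈ K) (hab : ∀ x ∈ K, ∀ y ∈ K, x * y = y * x) :
    K = ⊥ := by
  -- `K` centralizes every conjugate of `T`
  have hcent : ∀ k ∈ K, ∀ g : G, ∀ t ∈ T, k * (g * t * g⁻¹) = (g * t * g⁻¹) * k := by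
    -- first for an arbitrary invariant abelian subgroup and `T` itself
    have key : ∀ L : Subgroup G, L ≤ N → (∀ n ∈ N, ∀ k ∈ L, n * k * n⁻¹ ∈ L) →
        (∀ x ∈ L, ∀ y ∈ L, x * y = y * x) → ∀ k ∈ L, ∀ t ∈ T, k * t = t * k := by
      intro L hLN hLn hLab k hk t ht
      have hbot : L ⊓ T = ⊥ := by
        rcases hT.simple (L ⊓ T) inf_le_right (fun t ht k hk =>
          ⟨hLn t (hT.le ht) k hk.1, T.mul_mem (T.mul_mem ht hk.2) (T.inv_mem ht)⟩) with h | h
        · exact h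
        · exfalso
          apply hT.ne_bot
          rw [eq_bot_iff]
          intro z hz
          rw [mem_bot]
          apply hT.centerless z hz
          intro t ht
          have hz' : z ∈ L := by rw [← h] at hz; exact hz.1
          have ht' : t ∈ L := by rw [← h] at ht; exact ht.1
          exact hLab z hz' t ht'
      have h1 : k * t * k⁻¹ * t⁻¹ ∈ L ⊓ T := by
        refine ⟨?_, T.mul_mem (hT.norm k (hLN hk) t ht) (T.inv_mem ht)⟩
        have h2 := hLn t (hT.le ht) k⁻¹ (L.inv_mem hk)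
        have h3 : k * t * k⁻¹ * t⁻¹ = k * (t * k⁻¹ * t⁻¹) := by group
        rw [h3]
        exact L.mul_mem hk h2
      rw [hbot, mem_bot] at h1
      have h4 : k * t = (k * t * k⁻¹ * t⁻¹) * (t * k) := by group
      rw [h4, h1, one_mul]
    intro k hk g t ht
    -- conjugate `K` by `g⁻¹`
    let L : Subgroup G := K.map (MulAut.conj g⁻¹).toMonoidHom
    have hL : ∀ x, x ∈ L ↔ g * x * g⁻¹ ∈ K := by
      intro x
      constructor
      · rintro ⟨y, hy, rfl⟩
        have : g * ((MulAut.conj g⁻¹).toMonoidHom y) * g⁻¹ = y := by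
          simp [mul_assoc]
        rw [this]
        exact hy
      · intro h
        refine ⟨g * x * g⁻¹, h, ?_⟩
        simp [mul_assoc]
    have h1 := key L (fun x hx => by
        have h2 := hKN ((hL x).1 hx)
        have h3 := hNn.conj_mem _ h2 g⁻¹
        have h4 : g⁻¹ * (g * x * g⁻¹) * g⁻¹⁻¹ = x := by group
        rwa [h4] at h3)
      (fun n hn x hx => by
        rw [hL] at hx ⊢
        have h2 := hKn (g * n * g⁻¹) (hNn.conj_mem n hn g) _ hx
        have h3 : g * n * g⁻¹ * (g * x * g⁻¹) * (g * n * g⁻¹)⁻¹ = g * (n * x * n⁻¹) * g⁻¹ := by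
          group
        rwa [h3] at h2)
      (fun x hx y hy => by
        rw [hL] at hx hy
        have h2 := hab _ hx _ hy
        have h3 : g * x * g⁻¹ * (g * y * g⁻¹) = g * (x * y) * g⁻¹ := by group
        have h4 : g * y * g⁻¹ * (g * x * g⁻¹) = g * (y * x) * g⁻¹ := by group
        rw [h3, h4] at h2
        exact mul_left_cancel (mul_right_cancel h2))
      (g⁻¹ * k * g) ((hL _).2 (by
        have : g * (g⁻¹ * k * g) * g⁻¹ = k := by group
        rw [this]; exact hk)) t ht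
    have h5 : k * (g * t * g⁻¹) = g * ((g⁻¹ * k * g) * t) * g⁻¹ := by group
    have h6 : (g * t * g⁻¹) * k = g * (t * (g⁻¹ * k * g)) * g⁻¹ := by group
    rw [h5, h6, h1]
  -- so `K` lies in the centre of `N`, which is trivial
  have hKZ : ∀ k ∈ K, ∀ n ∈ N, k * n = n * k := by
    intro k hk n hn
    have h1 : N ≤ centralizer {k} := hT.gen _ (fun g t ht => by
      rw [mem_centralizer_singleton_iff]
      exact (hcent k hk g t ht).symm)
    have h2 := h1 hn
    rw [mem_centralizer_singleton_iff] at h2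
    exact h2.symm
  let Z : Subgroup G := N ⊓ centralizer (N : Set G)
  have hZn : Z.Normal := by
    constructor
    rintro z ⟨hz1, hz2⟩ g
    refine mem_inf.2 ⟨hNn.conj_mem z hz1 g, ?_⟩
    rw [mem_centralizer_iff]
    intro n hn
    have h1 := hNn.conj_mem n hn g⁻¹
    have h2 := mem_centralizer_iff.1 hz2 _ h1
    have h3 : n * (g * z * g⁻¹) = g * (g⁻¹ * n * g⁻¹⁻¹ * z) * g⁻¹ := by group
    have h4 : g * z * g⁻¹ * n = g * (z * (g⁻¹ * n * g⁻¹⁻¹)) * g⁻¹ := by group
    rw [h3, h4, h2]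
  rcases hmin Z hZn inf_le_left with h | h
  · rw [eq_bot_iff, ← h]
    intro k hk
    refine mem_inf.2 ⟨hKN hk, ?_⟩
    rw [mem_centralizer_iff]
    intro n hn
    exact (hKZ k hk n hn).symm
  · exfalso
    apply hna
    intro x hx y hy
    rw [← h] at hy
    exact mem_centralizer_iff.1 hy.2 x hx

end Cfsg.Agent.H386.Factor
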