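import Mathlib

/-!
Elementary tools on primitive permutation groups: invariant sets, invariant subgroups.
-/

set_option autoImplicit false

namespace Cfsg.Agent.H386.PrimTools

open MulAction
open scoped Pointwise

variable {G : Type*} [Group G] {Ω : Type*} [MulAction G Ω]

/-- A non-empty set invariant under a point stabilizer and a subgroup not contained in it is
everything. -/
theorem set_eq_univ [IsPreprimitive G Ω] [Nontrivial Ω] {α : Ω} {S : Set Ω} (hne : S.Nonempty)
    (hst : ∀ g ∈ stabilizer G α, ∀ x ∈ S, g • x ∈ S) (M : Subgroup G)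
    (hM : ∀ m ∈ M, ∀ x ∈ S, m • x ∈ S) (hMn : ¬ M ≤ stabilizer G α) : S = Set.univ := by
  have hst' : ∀ L : Subgroup G, (∀ m ∈ L, ∀ x ∈ S, m • x ∈ S) → L ≤ stabilizer G S := by
    intro L hL g hg
    rw [mem_stabilizer_iff]
    apply Set.Subset.antisymm
    · rintro _ ⟨x, hx, rfl⟩
      exact hL g hg x hx
    · intro x hx
      rw [Set.mem_smul_set_iff_inv_smul_mem]
      exact hL _ (L.inv_mem hg) x hx
  have h1 := hst' _ hst
  have h2 := hst' _ hM
  have hc : IsCoatom (stabilizer G α) := IsPreprimitive.isCoatom_stabilizer_of_isPreprimitive G α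
  rcases hc.le_iff.1 h1 with h | h
  · obtain ⟨x, hx⟩ := hne
    rw [Set.eq_univ_iff_forall]
    intro y
    obtain ⟨g, rfl⟩ := exists_smul_eq G x y
    have hg : g ∈ stabilizer G S := h ▸ Subgroup.mem_top g
    rw [mem_stabilizer_iff] at hg
    rw [← hg]
    exact Set.smul_mem_smul_set hx
  · rw [h] at h2
    exact absurd h2 hMn

/-- A subgroup normalized by a point stabilizer and not contained in it is transitive. -/
theorem exists_smul_eq_of_invariant [IsPreprimitive G Ω] [Nontrivial Ω] {α : Ω}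
    (M : Subgroup G) (hM : ∀ g ∈ stabilizer G α, ∀ m ∈ M, g * m * g⁻¹ ∈ M)
    (hMn : ¬ M ≤ stabilizer G α) (ω : Ω) : ∃ m ∈ M, m • α = ω := by
  have h := set_eq_univ (G := G) (α := α) (S := {x | ∃ m ∈ M, m • α = x})
    ⟨α, 1, M.one_mem, one_smul _ _⟩
    (by
      rintro g hg _ ⟨m, hm, rfl⟩
      refine ⟨g * m * g⁻¹, hM g hg m hm, ?_⟩
      have h1 : g⁻¹ • α = α := by
        rw [inv_smul_eq_iff]; exact (mem_stabilizer_iff.1 hg).symm
      rw [mul_smul, mul_smul, h1]) M
    (by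
      rintro g hg _ ⟨m, hm, rfl⟩
      exact ⟨g * m, M.mul_mem hg hm, mul_smul _ _ _⟩) hMn
  have h2 : ω ∈ {x | ∃ m ∈ M, m • α = x} := h ▸ Set.mem_univ ω
  exact h2

/-- A non-trivial normal subgroup of a faithful primitive group is transitive. -/
theorem exists_smul_eq_of_normal [IsPreprimitive G Ω] [FaithfulSMul G Ω] (N : Subgroup G)
    [hN : N.Normal] (hN0 : N ≠ ⊥) (α ω : Ω) : ∃ n ∈ N, n • α = ω := by
  have htr : IsPretransitive N Ω := by
    apply IsQuasiPreprimitive.isPretransitive_of_normal (G := G)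
    intro h
    apply hN0
    rw [Subgroup.eq_bot_iff_forall]
    intro l hl
    apply FaithfulSMul.eq_of_smul_eq_smul (α := Ω)
    intro x
    have h1 : x ∈ fixedPoints N Ω := h ▸ Set.mem_univ x
    rw [one_smul]
    exact h1 ⟨l, hl⟩
  obtain ⟨n, hn⟩ := htr.exists_smul_eq α ω
  exact ⟨n.1, n.2, hn⟩

/-- If `M` centralizes a transitive subgroup `N` of a faithful group then `M` is semiregular. -/
theorem eq_one_of_commute [FaithfulSMul G Ω] (N : Subgroup G) {α : Ω}
    (htr : ∀ ω : Ω, ∃ n ∈ N, n • α = ω) {m : G} (hm : ∀ n ∈ N, m * n = n * m) (hfix : m • α = α) :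
    m = 1 := by
  apply FaithfulSMul.eq_of_smul_eq_smul (α := Ω)
  intro x
  obtain ⟨n, hn, rfl⟩ := htr x
  rw [one_smul, ← mul_smul, hm n hn, mul_smul, hfix]

/-- Invariance of a subgroup `M` under a point stabilizer and under a transitive subgroup that
normalizes it gives normality. -/
theorem normal_of_invariant {α : Ω} (N M : Subgroup G) (htr : ∀ ω : Ω, ∃ n ∈ N, n • α = ω)
    (hst : ∀ g ∈ stabilizer G α, ∀ m ∈ M, g * m * g⁻¹ ∈ M)
    (hN : ∀ n ∈ N, ∀ m ∈ M, n * m * n⁻¹ ∈ M) : M.Normal := by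
  constructor
  intro m hm g
  obtain ⟨n, hn, hng⟩ := htr (g • α)
  have h1 : n⁻¹ * g ∈ stabilizer G α := by
    rw [mem_stabilizer_iff, mul_smul, ← hng, inv_smul_smul]
  have h2 := hN n hn _ (hst _ h1 m hm)
  have h3 : n * (n⁻¹ * g * m * (n⁻¹ * g)⁻¹) * n⁻¹ = g * m * g⁻¹ := by group
  rwa [h3] at h2

end Cfsg.Agent.H386.PrimTools
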